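import Mathlib.RingTheory.Derivation.Basic
import Mathlib.RingTheory.KrullDimension.NonZeroDivisors
import Mathlib.RingTheory.LocalRing.MaximalIdeal.Basic
import Mathlib.RingTheory.Ideal.MinimalPrime.Localization
import Mathlib.RingTheory.Ideal.Quotient.Operations
import Mathlib.Tactic.Ring
import Mathlib.Tactic.LinearCombination
import Mathlib.RingTheory.Unramified.Dedekind

/-!
# Dual derivations bound the dimension from below (characteristic zero)
-/

set_option autoImplicit false
set_option linter.style.haveILetI false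

universe u

open IsLocalRing

namespace Groth.Agent.DerivDim

/-- An element with unit derivative lies in no minimal prime. -/
theorem notMem_minimalPrimes {R : Type u} [CommRing R] (hQ : ∀ n : ℕ, n ≠ 0 → IsUnit (n : R))
    (D : Derivation ℤ R R) (x : R) (hx : IsUnit (D x)) (P : Ideal R) (hP : P ∈ minimalPrimes R) :
    x ∉ P := by
  classical
  intro hxP
  haveI := hP.1.1
  have hnil : IsNilpotent (algebraMap R (Localization.AtPrime P) x) := by
    have hr := IsLocalization.AtPrime.radical_map_of_mem_minimalPrimes (Localization.AtPrime P) P ⊥ hP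
    rw [Ideal.map_bot] at hr
    have : algebraMap R (Localization.AtPrime P) x ∈ (⊥ : Ideal (Localization.AtPrime P)).radical :=
      hr ▸ Ideal.mem_map_of_mem _ hxP
    obtain ⟨m, hm⟩ := this
    exact ⟨m, (Submodule.mem_bot _).mp hm⟩
  obtain ⟨N, hN⟩ := hnil
  have hex : ∃ M, ∃ s ∉ P, s * x ^ M = 0 := by
    rw [← map_pow, IsLocalization.map_eq_zero_iff P.primeCompl] at hN
    obtain ⟨⟨s, hs⟩, hsx⟩ := hN
    exact ⟨N, s, hs, hsx⟩
  obtain ⟨s, hs, hsx⟩ := Nat.find_spec hex
  obtain ⟨M, hM⟩ : ∃ M, Nat.find hex = M + 1 := by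
    refine ⟨Nat.find hex - 1, ?_⟩
    by_contra hcon
    have h0 : Nat.find hex = 0 := by omega
    rw [h0, pow_zero, mul_one] at hsx
    exact hs (hsx ▸ zero_mem P)
  rw [hM] at hsx
  have h1 : D (s * x ^ (M + 1)) = 0 := by rw [hsx, map_zero]
  rw [Derivation.leibniz, Derivation.leibniz_pow] at h1
  simp only [smul_eq_mul, nsmul_eq_mul, Nat.add_sub_cancel] at h1
  have h2 : ((M + 1 : ℕ) : R) * D x * (s * s * x ^ M) = 0 := by
    linear_combination s * h1 - D s * hsx
  have hu : IsUnit (((M + 1 : ℕ) : R) * D x) := (hQ _ (by omega)).mul hx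
  rw [hu.mul_right_eq_zero] at h2
  exact Nat.find_min hex (show M < Nat.find hex by omega) ⟨s * s, fun h => (hP.1.1.mem_or_mem h).elim hs hs, h2⟩

theorem natCast_le_ringKrullDim : ∀ (n : ℕ) (R : Type u) [CommRing R] [IsLocalRing R],
    (∀ m : ℕ, m ≠ 0 → IsUnit (m : R)) → ∀ (x : Fin n → R), (∀ i, x i ∈ maximalIdeal R) →
      ∀ D : Fin n → Derivation ℤ R R, (∀ i j, D i (x j) = if i = j then 1 else 0) →
        (n : WithBot ℕ∞) ≤ ringKrullDim R
  | 0, R, _, _, _, _, _, _, _ => ringKrullDim_nonneg_of_nontrivial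
  | n + 1, R, _, _, hQ, x, hx, D, hD => by
    classical
    let a := x (Fin.last n)
    let I := Ideal.span {a}
    haveI : Nontrivial (R ⧸ I) := Ideal.Quotient.nontrivial_iff.mpr
      ((Ideal.span_singleton_eq_top.not).mpr ((mem_maximalIdeal _).mp (hx _)))
    haveI : IsLocalRing (R ⧸ I) := IsLocalRing.of_surjective' (Ideal.Quotient.mk I) Ideal.Quotient.mk_surjective
    have hDI : ∀ (i : Fin n) (r : R), r ∈ I → D i.castSucc r ∈ I := by
      intro i r hr
      obtain ⟨c, rfl⟩ := Ideal.mem_span_singleton'.mp hr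
      rw [Derivation.leibniz, hD, if_neg (Fin.castSucc_lt_last i).ne, smul_zero, zero_add, smul_eq_mul]
      exact Ideal.mem_span_singleton'.mpr ⟨D i.castSucc c, mul_comm _ _⟩
    have hlift : ∀ i : Fin n, ∃ E : Derivation ℤ (R ⧸ I) (R ⧸ I),
        ∀ r, E (Ideal.Quotient.mk I r) = Ideal.Quotient.mk I (D i.castSucc r) := by
      intro i
      let g : R ⧸ I →+ R ⧸ I := QuotientAddGroup.map _ _ (D i.castSucc).toLinearMap.toAddMonoidHom
        (fun r hr => hDI i r hr)
      refine ⟨Derivation.mk' g.toIntLinearMap (fun a b => ?_), fun r => rfl⟩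
      obtain ⟨a, rfl⟩ := Ideal.Quotient.mk_surjective a
      obtain ⟨b, rfl⟩ := Ideal.Quotient.mk_surjective b
      show Ideal.Quotient.mk I (D i.castSucc (a * b)) = Ideal.Quotient.mk I a • Ideal.Quotient.mk I (D i.castSucc b)
        + Ideal.Quotient.mk I b • Ideal.Quotient.mk I (D i.castSucc a)
      rw [Derivation.leibniz, map_add]
      rfl
    choose E hE using hlift
    have ih := natCast_le_ringKrullDim n (R ⧸ I) (fun m hm => by
        simpa using (hQ m hm).map (Ideal.Quotient.mk I))
      (fun i => Ideal.Quotient.mk I (x i.castSucc))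
      (fun i => by
        rw [mem_maximalIdeal, mem_nonunits_iff]
        intro hu
        obtain ⟨b, hb⟩ := Ideal.Quotient.mk_surjective (↑hu.unit⁻¹ : R ⧸ I)
        have h1 : x i.castSucc * b - 1 ∈ I := by
          rw [← Ideal.Quotient.eq, map_mul, map_one, hb, IsUnit.mul_val_inv]
        have h2 : I ≤ maximalIdeal R := (Ideal.span_singleton_le_iff_mem _).mpr (hx _)
        have h3 := Ideal.sub_mem _ (Ideal.mul_mem_right b _ (hx i.castSucc)) (h2 h1)
        rw [sub_sub_cancel] at h3
        exact (maximalIdeal.isMaximal R).ne_top ((Ideal.eq_top_iff_one _).mpr h3))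
      E (fun i j => by
        refine (hE i _).trans ?_
        rw [hD]
        by_cases h : i = j
        · rw [if_pos (congrArg Fin.castSucc h), if_pos h, map_one]
        · rw [if_neg (fun e => h (Fin.castSucc_injective _ e)), if_neg h, map_zero])
    have key : ringKrullDim (R ⧸ I) + 1 ≤ ringKrullDim R := by
      have : Nonempty (PrimeSpectrum.zeroLocus (R := R) I) := by
        rw [Set.nonempty_coe_sort, Set.nonempty_iff_ne_empty, ne_eq, PrimeSpectrum.zeroLocus_empty_iff_eq_top]
        exact Ideal.Quotient.nontrivial_iff.mp inferInstance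
      rw [ringKrullDim_quotient, Order.krullDim_eq_iSup_length, ringKrullDim,
        Order.krullDim_eq_iSup_length, ← WithBot.coe_one, ← WithBot.coe_add,
        ENat.iSup_add, WithBot.coe_le_coe, iSup_le_iff]
      intro l
      obtain ⟨p, hp, hp'⟩ := Ideal.exists_minimalPrimes_le (J := l.head.1.asIdeal) bot_le
      let p' : PrimeSpectrum R := ⟨p, hp.1.1⟩
      have hp' : p' < l.head := lt_of_le_of_ne hp' fun h =>
        notMem_minimalPrimes hQ (D (Fin.last n)) a (by rw [hD, if_pos rfl]; exact isUnit_one) p hp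
          (show a ∈ p by
            have := l.head.2 (Ideal.mem_span_singleton_self a)
            simpa [← h] using this)
      refine le_trans ?_ (le_iSup _ ((l.map Subtype.val (fun _ _ ↦ id)).cons p' hp'))
      simp
    refine le_trans ?_ key
    rw [Nat.cast_succ]
    gcongr

end Groth.Agent.DerivDim
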